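import Groth.Agent.ExtPowEx28.Pull
import Groth.Agent.Hyper5.QCohExt
import Groth.Agent.Coherent.PullUnit
import Groth.Agent.EulerPn5.CanonOver

/-! Inverse images commute with exterior powers of quasi-coherent modules. -/

set_option autoImplicit false
set_option linter.style.haveILetI false
set_option backward.isDefEq.respectTransparency false
set_option maxHeartbeats 1000000

universe u

open CategoryTheory CategoryTheory.Limits AlgebraicGeometry TopologicalSpace Opposite TensorProduct
open Groth.Agent Groth.Agent.Coherent Groth.Agent.PicLib Groth.Agent.GrassLib.PBundle Groth.Agent.ExtPowEx28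

noncomputable section

namespace Groth.Agent.ExtPow5

variable {X Y : Scheme.{u}} (σ : Y ⟶ X) (i : ℕ) (E : X.Modules) [Coh.IsQCoh E]

theorem nonempty_pullback_ext {L : X.Modules} (hL : ExtPow.IsExtPow i E L) :
    Nonempty ((Scheme.Modules.pullback σ).obj L ≅ ext i ((Scheme.Modules.pullback σ).obj E)) := by
  classical
  haveI : Coh.IsQCoh L := Hyper5.isQCoh_of_isExtPow hL
  let E' := (Scheme.Modules.pullback σ).obj E
  haveI : Coh.IsQCoh E' := EGA43.InjFibre.isQCoh_pullback _ _
  obtain ⟨φ, hφ⟩ := hL
  obtain ⟨f, hf⟩ := exists_hom_of_alt (V := E) (q := i) (L := L) φ hφ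
    (M := (Scheme.Modules.pushforward σ).obj (ext i E')) (fun A => pullAlt σ i E A.1) fun A B h v => by
      refine Subtype.ext (funext fun y => ?_)
      refine (pullAlt_apply σ i E A.1 v ⟨y.1, h y.2⟩).trans ?_
      refine Eq.trans ?_ (pullAlt_apply σ i E B.1 (fun j => resM E h (v j)) y).symm
      refine Eq.trans ((wg_res i E' (σ.preimage_mono h) y.1 y.2 fun j => pullSec σ (v j)).symm) ?_
      exact congrArg (wg i E' y.1 y.2) (funext fun j => PicLib.resM_pullSec σ h (v j))
  let g := ((Scheme.Modules.pullbackPushforwardAdjunction σ).homEquiv L (ext i E')).symm f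
  haveI : IsIso g := InjMod14.Kosz.isIso_of_affine_nbhds g fun W y hy => by
    obtain ⟨U, hU, hxU, -⟩ := Opens.isBasis_iff_nbhd.1 X.isBasis_affineOpens (Opens.mem_top (σ y))
    obtain ⟨V, hV, hyV, hVle⟩ := Opens.isBasis_iff_nbhd.1 Y.isBasis_affineOpens
      (show y ∈ W ⊓ σ ⁻¹ᵁ U from ⟨hy, hxU⟩)
    have hVU : V ≤ σ ⁻¹ᵁ U := hVle.trans inf_le_right
    refine ⟨⟨V, hV⟩, hyV, hVle.trans inf_le_left, ?_⟩
    let A := Γ(X, U)
    let B := Γ(Y, V)
    letI : Algebra A B := (σ.appLE U V hVU).hom.toAlgebra
    letI : Module A Γ((Scheme.Modules.pullback σ).obj L, V) := Module.compHom _ (σ.appLE U V hVU).hom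
    haveI : IsScalarTower A B Γ((Scheme.Modules.pullback σ).obj L, V) :=
      IsScalarTower.of_algebraMap_smul fun _ _ => rfl
    letI : Module A Γ(E', V) := Module.compHom _ (σ.appLE U V hVU).hom
    haveI : IsScalarTower A B Γ(E', V) := IsScalarTower.of_algebraMap_smul fun _ _ => rfl
    obtain ⟨μL, hμL, hμLe⟩ := EGA43.InjFibre.pullMap_isBaseChange σ hU hV hVU (M := L)
    obtain ⟨μE, hμE, hμEe⟩ := EGA43.InjFibre.pullMap_isBaseChange σ hU hV hVU (M := E)
    have heE : ∀ m, μE m = resM E' hVU (pullSec σ m) := fun m =>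
      (hμEe m).trans (pullMap_eq_resM_pullSec σ hU hV hVU E m)
    have heL : ∀ m, μL m = resM ((Scheme.Modules.pullback σ).obj L) hVU (pullSec σ m) := fun m =>
      (hμLe m).trans (pullMap_eq_resM_pullSec σ hU hV hVU L m)
    let gA : ↥(⋀[A]^i Γ(E, U)) →ₗ[A] ↥(⋀[B]^i Γ(E', V)) :=
      exteriorPower.alternatingMapLinearEquiv
        { toMultilinearMap := ((exteriorPower.ιMulti B i
              (M := Γ(E', V))).toMultilinearMap.restrictScalars A).compLinearMap fun _ => μE
          map_eq_zero_of_eq' := fun v a b hab hne =>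
            (exteriorPower.ιMulti B i).map_eq_zero_of_eq _ (congrArg μE hab) hne }
    have hgA : ∀ v, gA (exteriorPower.ιMulti A i v) = exteriorPower.ιMulti B i (μE ∘ v) := fun v =>
      exteriorPower.alternatingMapLinearEquiv_apply_ιMulti _ _
    have hbA := DR15.exteriorPower_isBaseChange hμE i gA hgA
    let ψ : ↥(⋀[B]^i Γ(E', V)) ≃ₗ[B] ((ext i E').val.obj (op V)) :=
      LinearEquiv.ofBijective _ (bijective_psi i E' hV)
    let eU : Γ(L, U) ≃ₗ[A] ↥(⋀[A]^i Γ(E, U)) := φ ⟨U, hU⟩
    have key : ∀ v : Fin i → Γ(E, U),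
        g.app V (μL (eU.symm (exteriorPower.ιMulti A i v))) = ψ (gA (exteriorPower.ιMulti A i v)) := by
      intro v
      rw [heL, app_resM, PicLib.homEquiv_symm_app_pullSec, hgA]
      refine (congrArg (resM (ext i E') hVU) (hf ⟨U, hU⟩ v)).trans ?_
      refine Subtype.ext (funext fun z => ?_)
      refine (pullAlt_apply σ i E U v ⟨z.1, hVU z.2⟩).trans ?_
      refine Eq.trans ((wg_res i E' hVU z.1 z.2 _).symm) ?_
      refine Eq.trans ?_ (theta_ι i E' z.1 z.2 _).symm
      exact congrArg (wg i E' z.1 z.2) (funext fun j => (heE (v j)).symm)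
    have key' : ∀ w, g.app V (μL (eU.symm w)) = ψ (gA w) := by
      intro w
      have hw : w ∈ Submodule.span A (Set.range (exteriorPower.ιMulti A i (M := Γ(E, U)))) := by
        rw [exteriorPower.ιMulti_span]; trivial
      induction hw using Submodule.span_induction with
      | mem z hz => obtain ⟨v, rfl⟩ := hz; exact key v
      | zero => simp only [map_zero]
      | add a b _ _ ha hb => simp only [map_add, ha, hb]
      | smul r a _ ha =>
        have e1 : μL (eU.symm (r • a)) = algebraMap A B r • μL (eU.symm a) :=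
          (congrArg μL (eU.symm.map_smul r a)).trans ((μL.map_smul r _).trans (algebraMap_smul B r _).symm)
        have e2 : gA (r • a) = algebraMap A B r • gA a :=
          (gA.map_smul r a).trans (algebraMap_smul B r _).symm
        refine Eq.trans ?_ (congrArg ψ e2).symm
        refine Eq.trans (congrArg (g.app V) e1) ?_
        refine Eq.trans ?_ (ψ.map_smul _ _).symm
        exact (Scheme.Modules.Hom.app_smul g _ _).trans (congrArg (algebraMap A B r • ·) ha)
    let T := (LinearEquiv.baseChange A B _ _ eU).trans (hbA.equiv.trans ψ)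
    have hT : ∀ z, g.app V (hμL.equiv z) = T z := by
      intro z
      induction z using TensorProduct.induction_on with
      | zero => simp only [map_zero]
      | add a b ha hb => simp only [map_add, ha, hb]
      | tmul b x =>
        have h1 : T (b ⊗ₜ x) = b • ψ (gA (eU x)) := by
          show ψ (hbA.equiv (b ⊗ₜ[A] eU x)) = _
          exact (congrArg ψ (hbA.equiv_tmul b (eU x))).trans (ψ.map_smul _ _)
        refine Eq.trans ?_ h1.symm
        refine (congrArg (g.app V) (hμL.equiv_tmul b x)).trans ((Scheme.Modules.Hom.app_smul g _ _).trans ?_)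
        refine congrArg (b • ·) (Eq.trans ?_ (key' (eU x)))
        exact congrArg (fun z => g.app V (μL z)) (eU.symm_apply_apply x).symm
    have h₁ : Function.Bijective (g.app V ∘ hμL.equiv) := by
      rw [show (g.app V ∘ hμL.equiv) = ⇑T from funext hT]
      exact T.bijective
    exact (Function.Bijective.of_comp_iff _ hμL.equiv.bijective).1 h₁
  exact ⟨asIso g⟩

/-- The inverse image of an exterior power of a quasi-coherent module is an exterior power. -/
theorem isExtPow_pullback {L : X.Modules} (hL : ExtPow.IsExtPow i E L) :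
    ExtPow.IsExtPow i ((Scheme.Modules.pullback σ).obj E) ((Scheme.Modules.pullback σ).obj L) := by
  haveI : Coh.IsQCoh ((Scheme.Modules.pullback σ).obj E) := EGA43.InjFibre.isQCoh_pullback _ _
  obtain ⟨e⟩ := nonempty_pullback_ext σ i E hL
  exact isExtPow_of_iso e.symm (isExtPow_ext i _)

end Groth.Agent.ExtPow5

end
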