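import Groth.Agent.ExtPow5.PullQC
import Groth.Agent.AmpleLib.Power
import Groth.Agent.Coherent.TensorSections
import Groth.Agent.Coherent.TensorQcoh
import Groth.Agent.TPowGen8.Ideal
import Groth.Agent.KRRPBLib.Basic
import Groth.Agent.RelVALib.UPPhi

/-! Exterior powers of a twist by an invertible module. -/

set_option autoImplicit false
set_option linter.style.haveILetI false
set_option backward.isDefEq.respectTransparency false
set_option maxHeartbeats 1000000

universe u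

open CategoryTheory CategoryTheory.Limits AlgebraicGeometry Opposite TopologicalSpace TensorProduct
open Groth.Agent Groth.Agent.Coherent Groth.Agent.PicLib Groth.Agent.AmpleLib

noncomputable section

namespace Groth.Agent.ExtPow5

variable {X : Scheme.{u}}

/-- Coordinates with respect to a generator. -/
def genEquiv {L : X.Modules} {B : X.Opens} {s : Γ(L, B)} (hs : IsGen L B s) : Γ(X, B) ≃ₗ[Γ(X, B)] Γ(L, B) :=
  LinearEquiv.ofBijective (LinearMap.toSpanSingleton Γ(X, B) Γ(L, B) s) (by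
    have := hs B le_rfl
    simp only [resM_self] at this
    exact this)

/-- `w ↦ w ⊗ s`. -/
def twEquiv (F : X.Modules) [Coh.IsQCoh F] {L : X.Modules} [Coh.IsQCoh L] {B : X.Opens} (hB : IsAffineOpen B)
    {s : Γ(L, B)} (hs : IsGen L B s) : Γ(F, B) ≃ₗ[Γ(X, B)] Γ(CohB1.tensorMod F L, B) :=
  (TensorProduct.rid Γ(X, B) Γ(F, B)).symm.trans
    ((TensorProduct.congr (LinearEquiv.refl _ _) (genEquiv hs)).trans
      (LinearEquiv.ofBijective (tmulMap F L B) (bijective_tmulMap hB F L)))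

theorem twEquiv_apply (F : X.Modules) [Coh.IsQCoh F] {L : X.Modules} [Coh.IsQCoh L] {B : X.Opens}
    (hB : IsAffineOpen B) {s : Γ(L, B)} (hs : IsGen L B s) (w : Γ(F, B)) :
    twEquiv F hB hs w = tmul w s := by
  show tmulMap F L B (w ⊗ₜ[Γ(X, B)] (((1 : Γ(X, B)) • s : Γ(L, B)))) = _
  rw [tmulMap_tmul, one_smul]

variable (E L : X.Modules) [Coh.IsQCoh E] [Coh.IsQCoh L] (k : ℕ) {M N : X.Modules} [Coh.IsQCoh N]
  [Coh.IsQCoh (CohB1.tensorPow L k)]
  (φM : ∀ U : X.affineOpens, (M.val.obj (op U.1)) ≃ₗ[Γ(X, U.1)]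
    ↥(⋀[Γ(X, U.1)]^k ((CohB1.tensorMod E L).val.obj (op U.1))))
  (φN : ∀ U : X.affineOpens, (N.val.obj (op U.1)) ≃ₗ[Γ(X, U.1)] ↥(⋀[Γ(X, U.1)]^k (E.val.obj (op U.1))))

/-- The wedge of twisted sections. -/
abbrev mgen (B : X.affineOpens) (s : Γ(L, B.1)) (w : Fin k → Γ(E, B.1)) : Γ(M, B.1) :=
  (φM B).symm (exteriorPower.ιMulti Γ(X, B.1) k (M := (CohB1.tensorMod E L).val.obj (op B.1))
    fun j => (show Γ(CohB1.tensorMod E L, B.1) from tmul (w j) s))

/-- The wedge. -/
abbrev ngen (B : X.affineOpens) (w : Fin k → Γ(E, B.1)) : Γ(N, B.1) :=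
  (φN B).symm (exteriorPower.ιMulti Γ(X, B.1) k (M := E.val.obj (op B.1)) w)

/-- The local comparison. -/
theorem exists_cmp (B : X.affineOpens) {s : Γ(L, B.1)} (hs : IsGen L B.1 s) :
    ∃ F : Γ(M, B.1) ≃ₗ[Γ(X, B.1)] Γ(CohB1.tensorMod N (CohB1.tensorPow L k), B.1),
      ∀ w : Fin k → Γ(E, B.1), F (mgen E L k φM B s w) = tmul (ngen E k φN B w) (powSec s k) := by
  let t := twEquiv E B.2 hs
  let l : ↥(⋀[Γ(X, B.1)]^k Γ(CohB1.tensorMod E L, B.1)) ≃ₗ[Γ(X, B.1)] ↥(⋀[Γ(X, B.1)]^k Γ(E, B.1)) :=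
    LinearEquiv.ofLinear (exteriorPower.map k t.symm.toLinearMap) (exteriorPower.map k t.toLinearMap)
      (exteriorPower.linearMap_ext (AlternatingMap.ext fun v => by simp [Function.comp_def]))
      (exteriorPower.linearMap_ext (AlternatingMap.ext fun v => by simp [Function.comp_def]))
  let φ₁ : Γ(M, B.1) ≃ₗ[Γ(X, B.1)] ↥(⋀[Γ(X, B.1)]^k Γ(CohB1.tensorMod E L, B.1)) := φM B
  let φ₂ : Γ(N, B.1) ≃ₗ[Γ(X, B.1)] ↥(⋀[Γ(X, B.1)]^k Γ(E, B.1)) := φN B
  refine ⟨φ₁.trans (l.trans (φ₂.symm.trans (twEquiv N B.2 (isGen_powSec hs k)))), fun w => ?_⟩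
  show twEquiv N B.2 (isGen_powSec hs k) (φ₂.symm (l (φ₁ (φ₁.symm _)))) = _
  rw [twEquiv_apply, LinearEquiv.apply_symm_apply]
  refine congrArg (fun z => tmul (φ₂.symm z) (powSec s k)) ?_
  show exteriorPower.map k t.symm.toLinearMap (exteriorPower.ιMulti Γ(X, B.1) k
    (M := Γ(CohB1.tensorMod E L, B.1)) fun j => tmul (w j) s) = _
  rw [exteriorPower.map_apply_ιMulti]
  refine congrArg (exteriorPower.ιMulti Γ(X, B.1) k) (funext fun j => ?_)
  exact t.injective ((t.apply_symm_apply _).trans (twEquiv_apply E B.2 hs (w j)).symm)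

variable (hφM : ∀ (U V : X.affineOpens) (h : V.1 ≤ U.1) (e : Fin k → (CohB1.tensorMod E L).val.obj (op U.1)),
      M.val.map (homOfLE h).op ((φM U).symm (exteriorPower.ιMulti _ k e)) =
        (φM V).symm (exteriorPower.ιMulti _ k (fun j => (CohB1.tensorMod E L).val.map (homOfLE h).op (e j))))
  (hφN : ∀ (U V : X.affineOpens) (h : V.1 ≤ U.1) (e : Fin k → E.val.obj (op U.1)),
      N.val.map (homOfLE h).op ((φN U).symm (exteriorPower.ιMulti _ k e)) =
        (φN V).symm (exteriorPower.ιMulti _ k (fun j => E.val.map (homOfLE h).op (e j))))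

omit [Coh.IsQCoh N] [Coh.IsQCoh (CohB1.tensorPow L k)] in
include hφM hφN in
theorem res_gen {A B : X.affineOpens} (h : B.1 ≤ A.1) (s : Γ(L, A.1)) (w : Fin k → Γ(E, A.1)) :
    resM M h (mgen E L k φM A s w) = mgen E L k φM B (resM L h s) (fun j => resM E h (w j)) ∧
      resM (CohB1.tensorMod N (CohB1.tensorPow L k)) h (tmul (ngen E k φN A w) (powSec s k)) =
        tmul (ngen E k φN B fun j => resM E h (w j)) (powSec (resM L h s) k) := by
  refine ⟨(hφM A B h _).trans (congrArg (fun z => (φM B).symm (exteriorPower.ιMulti Γ(X, B.1) k z))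
    (funext fun j => resM_tmul h (w j) s)), ?_⟩
  rw [resM_tmul, resM_powSec]
  exact congrArg (tmul · _) (hφN A B h w)

include hφM hφN in
/-- The comparison does not depend on the generator and commutes with restriction. -/
theorem cmp_compat {A B : X.affineOpens} (h : B.1 ≤ A.1) {s : Γ(L, A.1)} (hs : IsGen L A.1 s)
    {s' : Γ(L, B.1)} (hs' : IsGen L B.1 s') (x : Γ(M, A.1)) :
    resM (CohB1.tensorMod N (CohB1.tensorPow L k)) h ((exists_cmp E L k φM φN A hs).choose x) =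
      (exists_cmp E L k φM φN B hs').choose (resM M h x) := by
  let F := (exists_cmp E L k φM φN A hs).choose
  let G := (exists_cmp E L k φM φN B hs').choose
  have hF := (exists_cmp E L k φM φN A hs).choose_spec
  have hG := (exists_cmp E L k φM φN B hs').choose_spec
  let φ₁ : Γ(M, A.1) ≃ₗ[Γ(X, A.1)] ↥(⋀[Γ(X, A.1)]^k Γ(CohB1.tensorMod E L, A.1)) := φM A
  obtain ⟨y, rfl⟩ := φ₁.symm.surjective x
  have hy : y ∈ Submodule.span Γ(X, A.1)
      (Set.range (exteriorPower.ιMulti Γ(X, A.1) k (M := Γ(CohB1.tensorMod E L, A.1)))) := by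
    rw [exteriorPower.ιMulti_span]; trivial
  show resM _ h (F _) = G _
  induction hy using Submodule.span_induction with
  | zero => simp only [map_zero]
  | add a b _ _ ha hb => simp only [map_add, ha, hb]
  | smul r a _ ha =>
    rw [map_smul, map_smul, resM_smul, resM_smul, ha, map_smul]
  | mem z hz =>
    obtain ⟨v, rfl⟩ := hz
    obtain ⟨w, rfl⟩ : ∃ w : Fin k → Γ(E, A.1), (fun j => tmul (w j) s) = v :=
      ⟨fun j => (twEquiv E A.2 hs).symm (v j), funext fun j => by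
        rw [← twEquiv_apply E A.2 hs]; exact (twEquiv E A.2 hs).apply_symm_apply _⟩
    show resM _ h (F (mgen E L k φM A s w)) = G (resM M h (mgen E L k φM A s w))
    obtain ⟨e1, e2⟩ := res_gen E L k φM φN hφM hφN h s w
    rw [hF, e2, e1]
    let c := hs'.coef le_rfl (resM L h s)
    have hc : resM L h s = c • s' := by
      have := hs'.coef_spec le_rfl (resM L h s)
      rw [resM_self] at this
      exact this.symm
    have e3 : mgen E L k φM B (resM L h s) (fun j => resM E h (w j)) =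
        c ^ k • mgen E L k φM B s' (fun j => resM E h (w j)) := by
      let φ₃ : Γ(M, B.1) ≃ₗ[Γ(X, B.1)] ↥(⋀[Γ(X, B.1)]^k Γ(CohB1.tensorMod E L, B.1)) := φM B
      show φ₃.symm (exteriorPower.ιMulti Γ(X, B.1) k (M := Γ(CohB1.tensorMod E L, B.1))
          fun j => tmul (resM E h (w j)) (resM L h s)) = c ^ k • φ₃.symm (exteriorPower.ιMulti Γ(X, B.1) k
          (M := Γ(CohB1.tensorMod E L, B.1)) fun j => tmul (resM E h (w j)) s')
      rw [← map_smul]
      refine congrArg φ₃.symm ?_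
      rw [show (fun j => tmul (resM E h (w j)) (resM L h s)) = fun j => c • tmul (resM E h (w j)) s' from
        funext fun j => by rw [hc, tmul_smul_right]]
      exact (AlternatingMap.map_smul_univ _ (fun _ => c) _).trans (by rw [Fin.prod_const])
    rw [e3, map_smul, hG, hc, powSec_smul, tmul_smul_right]

include hφM hφN in
/-- `⋀^k (E ⊗ L) ≅ ⋀^k E ⊗ L^k`. -/
theorem nonempty_iso (hL : PicF.IsInvertible L) :
    Nonempty (M ≅ CohB1.tensorMod N (CohB1.tensorPow L k)) := by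
  classical
  let T := CohB1.tensorMod N (CohB1.tensorPow L k)
  let I : X.Opens → Type u := fun U => {B : X.affineOpens // B.1 ≤ U ∧ ∃ s : Γ(L, B.1), IsGen L B.1 s}
  have hI : ∀ (U : X.Opens) (y : X), y ∈ U → ∃ B : I U, y ∈ B.1.1 := fun U y hy => by
    obtain ⟨W, hyW, g, hg⟩ := exists_isGen hL y
    obtain ⟨B, hB, hyB, hle⟩ := Opens.isBasis_iff_nbhd.1 X.isBasis_affineOpens (show y ∈ U ⊓ W from ⟨hy, hyW⟩)
    exact ⟨⟨⟨B, hB⟩, hle.trans inf_le_left, _, hg.restrict (hle.trans inf_le_right)⟩, hyB⟩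
  let F : ∀ (U : X.Opens) (B : I U), Γ(M, B.1.1) ≃ₗ[Γ(X, B.1.1)] Γ(T, B.1.1) := fun U B =>
    (exists_cmp E L k φM φN B.1 B.2.2.choose_spec).choose
  have hex : ∀ (U : X.Opens) (x : Γ(M, U)), ∃ t : Γ(T, U),
      ∀ B : I U, resM T B.2.1 t = F U B (resM M B.2.1 x) := by
    intro U x
    refine (TopCat.Sheaf.existsUnique_gluing' (⟨T.presheaf, T.isSheaf⟩ : TopCat.Sheaf Ab X)
      (fun B : I U => B.1.1) U (fun B => homOfLE B.2.1)
      (fun y hy => Opens.mem_iSup.2 (hI U y hy)) (fun B => F U B (resM M B.2.1 x)) fun B C => ?_).exists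
    show resM T (inf_le_left : B.1.1 ⊓ C.1.1 ≤ B.1.1) _ = resM T (inf_le_right : B.1.1 ⊓ C.1.1 ≤ C.1.1) _
    refine AmpleLib.sec_ext T _ _ fun y hy => ?_
    obtain ⟨⟨D, hD, sD, hsD⟩, hyD⟩ := hI (B.1.1 ⊓ C.1.1) y hy
    refine ⟨D.1, hD, hyD, ?_⟩
    rw [resM_resM, resM_resM]
    refine (cmp_compat E L k φM φN hφM hφN (hD.trans inf_le_left) B.2.2.choose_spec hsD _).trans
      (Eq.trans ?_ (cmp_compat E L k φM φN hφM hφN (hD.trans inf_le_right) C.2.2.choose_spec hsD _).symm)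
    rw [resM_resM, resM_resM]
  choose t ht using hex
  have huniq : ∀ (U : X.Opens) (a b : Γ(T, U)), (∀ B : I U, resM T B.2.1 a = resM T B.2.1 b) → a = b :=
    fun U a b hab => AmpleLib.sec_ext T a b fun y hy =>
      (hI U y hy).elim fun B hB => ⟨B.1.1, B.2.1, hB, hab B⟩
  obtain ⟨f, hf⟩ := RelVALib.exists_hom_of_affine M T
    (fun U _ => AddMonoidHom.mk' (t U) fun a b => huniq U _ _ fun B => by
      rw [ht, map_add, map_add, map_add, ht, ht])
    (fun U _ r x => huniq U _ _ fun B => by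
      show resM T B.2.1 (t U (r • x)) = resM T B.2.1 (r • t U x)
      rw [ht, resM_smul, resM_smul, map_smul, ht])
    (fun U V _ _ h x => huniq V _ _ fun B => by
      show resM T B.2.1 (t V (resM M h x)) = resM T B.2.1 (resM T h (t U x))
      rw [ht, resM_resM, resM_resM]
      exact (ht U x ⟨B.1, B.2.1.trans h, B.2.2⟩).symm)
  haveI : IsIso f := InjMod14.Kosz.isIso_of_affine_nbhds f fun W y hy => by
    obtain ⟨B, hyB⟩ := hI W y hy
    refine ⟨B.1, hyB, B.2.1, ?_⟩
    have : ⇑(f.app B.1.1).hom = ⇑(F W B) := funext fun x => by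
      refine (hf B.1.1 B.1.2 x).trans ?_
      have := ht B.1.1 x ⟨B.1, le_rfl, B.2.2⟩
      rw [resM_self, resM_self] at this
      exact this
    show Function.Bijective ⇑(f.app B.1.1).hom
    rw [this]
    exact (F W B).bijective
  exact ⟨asIso f⟩

end Groth.Agent.ExtPow5

end
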